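import Mathlib
import Groth.Prelude.Def_Conn

set_option linter.unusedSectionVars false

universe v u
open TensorProduct

namespace Groth.Agent.Conn53

section
variable {B Ω X Y : Type u} [CommRing B] [AddCommGroup Ω] [Module B Ω]
  [AddCommGroup X] [Module B X] [AddCommGroup Y] [Module B Y]

/-- Contraction with a functional. -/
noncomputable def ctr (θ : Ω →ₗ[B] B) : X ⊗[B] Ω →ₗ[B] X :=
  (TensorProduct.rid B X).toLinearMap ∘ₗ TensorProduct.map LinearMap.id θ

theorem ctr_tmul (θ : Ω →ₗ[B] B) (x : X) (w : Ω) : ctr θ (x ⊗ₜ[B] w) = θ w • x := by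
  simp [ctr]

theorem ctr_map (θ : Ω →ₗ[B] B) (f : X →ₗ[B] Y) (z : X ⊗[B] Ω) :
    ctr θ (TensorProduct.map f LinearMap.id z) = f (ctr θ z) := by
  induction z using TensorProduct.induction_on with
  | zero => simp
  | tmul x w => simp [ctr_tmul]
  | add a b ha hb => simp [ha, hb]

theorem ext_ctr [Module.Finite B Ω] [Module.Free B Ω] {z z' : X ⊗[B] Ω}
    (h : ∀ θ : Ω →ₗ[B] B, ctr θ z = ctr θ z') : z = z' := by
  classical
  let b := Module.Free.chooseBasis B Ω
  have key : ∀ z : X ⊗[B] Ω, z = ∑ i, (ctr (b.coord i) z) ⊗ₜ[B] b i := by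
    intro z
    induction z using TensorProduct.induction_on with
    | zero => simp
    | tmul x w =>
      conv_lhs => rw [← b.sum_repr w, tmul_sum]
      exact Finset.sum_congr rfl fun i _ => by simp [ctr_tmul, TensorProduct.smul_tmul]
    | add a c ha hc =>
      simp only [map_add, add_tmul, Finset.sum_add_distrib]
      rw [← ha, ← hc]
  rw [key z, key z']
  simp only [h]

end

section
variable {A : Type v} {B Ω M M' : Type u} [CommRing A] [CommRing B] [Algebra A B]
  [AddCommGroup Ω] [Module B Ω] [Module A Ω] [IsScalarTower A B Ω]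
  [AddCommGroup M] [Module B M] [Module A M] [IsScalarTower A B M]
  [AddCommGroup M'] [Module B M'] [Module A M'] [IsScalarTower A B M']

omit [Module A Ω] [IsScalarTower A B Ω] in
theorem along_eq (nabla : M →ₗ[A] M ⊗[B] Ω) (θ : Ω →ₗ[B] B) (m : M) :
    Conn.along nabla θ m = ctr θ (nabla m) := rfl

theorem along_smul {δ : Derivation A B Ω} {nabla : M →ₗ[A] M ⊗[B] Ω} (hc : Conn.IsConn δ nabla)
    (θ : Ω →ₗ[B] B) (b : B) (m : M) :
    Conn.along nabla θ (b • m) = b • Conn.along nabla θ m + θ (δ b) • m := by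
  rw [along_eq, hc b m, map_add, map_smul, ctr_tmul, ← along_eq]

omit [Module A Ω] [IsScalarTower A B Ω] in
theorem along_hom {n1 : M →ₗ[A] M ⊗[B] Ω} {n2 : M' →ₗ[A] M' ⊗[B] Ω}
    {n3 : (M →ₗ[B] M') →ₗ[A] (M →ₗ[B] M') ⊗[B] Ω} (h : Conn.IsHomConn n1 n2 n3)
    (θ : Ω →ₗ[B] B) (f : M →ₗ[B] M') (m : M) :
    Conn.along n3 θ f m = Conn.along n2 θ (f m) - f (Conn.along n1 θ m) := by
  have h1 := congrArg (ctr θ) (h f m)
  rw [map_sub, ctr_map, ctr_map] at h1
  exact h1

theorem along_tensor {n1 : M →ₗ[A] M ⊗[B] Ω} {n2 : M' →ₗ[A] M' ⊗[B] Ω}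
    {n3 : M ⊗[B] M' →ₗ[A] (M ⊗[B] M') ⊗[B] Ω} (h : Conn.IsTensorConn n1 n2 n3)
    (θ : Ω →ₗ[B] B) (m : M) (m' : M') :
    Conn.along n3 θ (m ⊗ₜ[B] m') =
      Conn.along n1 θ m ⊗ₜ[B] m' + m ⊗ₜ[B] Conn.along n2 θ m' := by
  rw [along_eq, h m m', map_add]
  have h1 : ∀ z : M ⊗[B] Ω, ctr θ (Conn.swapR (z ⊗ₜ[B] m')) = ctr θ z ⊗ₜ[B] m' := by
    intro z
    induction z using TensorProduct.induction_on with
    | zero => simp
    | tmul x w => simp [Conn.swapR_tmul, ctr_tmul, TensorProduct.smul_tmul']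
    | add a b ha hb => simp [add_tmul, ha, hb]
  have h2 : ∀ z : M' ⊗[B] Ω,
      ctr θ ((TensorProduct.assoc B M M' Ω).symm (m ⊗ₜ[B] z)) = m ⊗ₜ[B] ctr θ z := by
    intro z
    induction z using TensorProduct.induction_on with
    | zero => simp
    | tmul x w => simp [ctr_tmul, TensorProduct.tmul_smul]
    | add a b ha hb => simp [tmul_add, ha, hb]
  rw [h1, h2]; rfl

theorem isHorizontal_of_along [Module.Finite B Ω] [Module.Free B Ω]
    {n1 : M →ₗ[A] M ⊗[B] Ω} {n2 : M' →ₗ[A] M' ⊗[B] Ω} {f : M →ₗ[B] M'}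
    (h : ∀ (θ : Ω →ₗ[B] B) (m : M), Conn.along n2 θ (f m) = f (Conn.along n1 θ m)) :
    Conn.IsHorizontal n1 n2 f := by
  intro m
  refine ext_ctr fun θ => ?_
  rw [ctr_map]
  exact h θ m

theorem along_triv (δ : Derivation A B Ω) (θ : Ω →ₗ[B] B) (b : B) :
    Conn.along (Conn.triv δ) θ b = θ (δ b) := by
  rw [along_eq, Conn.triv_apply, ctr_tmul]; simp

/-- The trace commutes with covariant derivatives. -/
theorem trace_along [Module.Finite B M] [Module.Free B M] {δ : Derivation A B Ω}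
    {nabla : M →ₗ[A] M ⊗[B] Ω} (hc : Conn.IsConn δ nabla)
    {nablaE : (M →ₗ[B] M) →ₗ[A] (M →ₗ[B] M) ⊗[B] Ω} (hE : Conn.IsHomConn nabla nabla nablaE)
    (θ : Ω →ₗ[B] B) (f : M →ₗ[B] M) :
    LinearMap.trace B M (Conn.along nablaE θ f) = θ (δ (LinearMap.trace B M f)) := by
  classical
  let e := Module.Free.chooseBasis B M
  let G : M →ₗ[B] M := e.constr B fun j => Conn.along nabla θ (e j)
  let Φ : M →ₗ[B] M := e.constr B fun j => ∑ i, θ (δ (LinearMap.toMatrix e e f i j)) • e i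
  have hG : ∀ j, G (e j) = Conn.along nabla θ (e j) := fun j => e.constr_basis B _ j
  have hk : Conn.along nablaE θ f = Φ + (G ∘ₗ f - f ∘ₗ G) := by
    refine e.ext fun j => ?_
    have hfj : f (e j) = ∑ i, LinearMap.toMatrix e e f i j • e i := by
      conv_lhs => rw [← e.sum_repr (f (e j))]
      simp [LinearMap.toMatrix_apply]
    rw [along_hom hE]
    conv_lhs =>
      rw [hfj, map_sum]
      simp only [along_smul hc, ← hG]
      rw [Finset.sum_add_distrib]
    have hgs : (∑ i, LinearMap.toMatrix e e f i j • G (e i)) = G (f (e j)) := by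
      rw [hfj, map_sum]
      simp only [map_smul]
    have hΦj : Φ (e j) = ∑ i, θ (δ (LinearMap.toMatrix e e f i j)) • e i := e.constr_basis B _ j
    rw [hgs]
    simp only [LinearMap.add_apply, LinearMap.sub_apply, LinearMap.comp_apply, hΦj]
    abel
  have hΦ : LinearMap.trace B M Φ = θ (δ (LinearMap.trace B M f)) := by
    rw [LinearMap.trace_eq_matrix_trace B e Φ, LinearMap.trace_eq_matrix_trace B e f]
    simp only [Matrix.trace, Matrix.diag, map_sum]
    refine Finset.sum_congr rfl fun i _ => ?_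
    rw [LinearMap.toMatrix_apply, e.constr_basis, e.repr_sum_self]
  rw [hk, map_add, map_sub, LinearMap.trace_comp_comm', sub_self, add_zero, hΦ]

end
end Groth.Agent.Conn53
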